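import Groth.Agent.GenFam.PowerForms
import Groth.Agent.EulerChar.Cartier
import Groth.Agent.AmpleLib.Ideal
import Groth.Agent.KFlat.TensorLocFree
import Groth.Agent.PerfTri.Betti
import Groth.Agent.Props.QProj
import Groth.Agent.IdealSh.IdealMod
import Mathlib.Topology.Constructible
import Groth.Prelude.Def_PerfAux

/-!
# The resolution property from boundary ideals
-/

set_option autoImplicit false
set_option linter.style.haveILetI false

universe u

open CategoryTheory CategoryTheory.Limits AlgebraicGeometry TopologicalSpace Opposite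

noncomputable section

namespace Groth.Agent.PerfModel.Boundary

open Groth.Agent.Props Groth.Agent.PullStalk.Sky Groth.Agent.PullStalk.Exact Groth.Agent.Omega.Stalks
  Groth.Agent.TensorExt Groth.Agent.ExtFilt.Stalkwise Groth.Agent.QCoh Groth.Agent.Props.SubMod
  Groth.Agent.GenFam Groth.Agent.AmpleLib OmegaSh

variable {X : Scheme.{u}}

theorem isFinLocFree_structureModule (X : Scheme.{u}) : FlatMod.IsFinLocFree (Coh.structureModule X) := by
  intro x
  obtain ⟨U, hU, e⟩ :=
    ProjTwist.isFinLocFreeOfRank_one (PicLoc.isInvertible_structureModule X) x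
  exact ⟨U, 1, hU, e⟩

theorem isFinLocFree_tensorPow {E : X.Modules} (hE : FlatMod.IsFinLocFree E) :
    ∀ n, FlatMod.IsFinLocFree (CohB1.tensorPow E n)
  | 0 => isFinLocFree_structureModule X
  | n + 1 => KFlat.TensorLocFree.isFinLocFree_tensM (isFinLocFree_tensorPow hE n) hE

/-- The structure module of a closed subscheme has nonzero stalks on the support. -/
theorem nontrivial_stalk_quotMod (J : X.IdealSheafData) {x : X} (hx : x ∈ (J.support : Set X)) :
    Nontrivial ((ClSub.quotMod J).presheaf.stalk x) := by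
  rw [← Scheme.IdealSheafData.range_subschemeι] at hx
  obtain ⟨z, rfl⟩ := hx
  rw [← not_subsingleton_iff_nontrivial]
  intro hsub
  let one : Γ(ClSub.quotMod J, ⊤) := (1 : Γ(J.subscheme, J.subschemeι ⁻¹ᵁ ⊤))
  obtain ⟨W, hzW, i₁, i₂, he⟩ := (ClSub.quotMod J).presheaf.germ_eq (J.subschemeι z) (U := ⊤) (V := ⊤) trivial
    trivial one 0 (@Subsingleton.elim _ hsub _ _)
  have h1 : J.subscheme.presheaf.map ((Opens.map J.subschemeι.base).map i₁).op
      (1 : Γ(J.subscheme, J.subschemeι ⁻¹ᵁ ⊤)) = 0 := he.trans (map_zero ((ClSub.quotMod J).presheaf.map i₂.op).hom)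
  rw [map_one] at h1
  have h2 := congrArg (J.subscheme.presheaf.germ (J.subschemeι ⁻¹ᵁ W) z hzW).hom h1
  simp at h2

theorem surjective_stalk_idealModι (J : X.IdealSheafData) {η : X} (hJ : η ∉ (J.support : Set X)) :
    Function.Surjective (stalkLin (ClSub.idealModι J) η) := by
  intro a
  haveI : Subsingleton ((ClSub.quotMod J).presheaf.stalk η) := by
    by_contra hn
    exact hJ (EulerChar.support_quotMod_subset J hn)
  exact ((stalk_exact (EulerChar.shortExact_ideal J) η).2.1 a).1 (Subsingleton.elim _ _)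

/-- A linear form whose image is an ideal is surjective exactly off the support. -/
theorem surjective_form_iff (J : X.IdealSheafData) {E : X.Modules} (p : E ⟶ ClSub.idealMod J) [Epi p]
    (x : X) : Function.Surjective (rS (p ≫ ClSub.idealModι J) x) ↔ x ∉ (J.support : Set X) := by
  rw [rS_surjective_iff]
  refine ⟨fun h hx => ?_, fun hx t => ?_⟩
  · obtain ⟨-, hex, hsur⟩ := stalk_exact (EulerChar.shortExact_ideal J) x
    obtain ⟨t, ht⟩ := @exists_ne _ (nontrivial_stalk_quotMod J hx) 0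
    obtain ⟨b, rfl⟩ := hsur t
    refine ht ((hex _).2 ?_)
    obtain ⟨z, hz⟩ := h b
    exact ⟨stalkLin p x z, (stalkLin_comp _ _ x z).symm.trans hz⟩
  · obtain ⟨w, rfl⟩ := surjective_stalk_idealModι J hx t
    obtain ⟨z, rfl⟩ := stalk_surjective p x w
    exact ⟨z, stalkLin_comp _ _ x z⟩


/-- An ideal whose module is of finite type has finitely generated sections on affine opens. -/
theorem fg_ideal_of_isFT {I : X.IdealSheafData} (hI : CohB1.IsFT (ClSub.idealMod I)) (T : X.affineOpens) :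
    (I.ideal T).FG := by
  haveI : (ClSub.idealMod I).IsQuasicoherent := AmpleLib.isQCoh_idealMod I
  haveI : SheafOfModules.IsFiniteType.{u} (ClSub.idealMod I) := hI
  haveI := QCoh.finite_sections_of_isFiniteType (ClSub.idealMod I) T.2
  let φ : Γ(ClSub.idealMod I, T.1) →ₗ[Γ(X, T.1)] I.ideal T :=
    { toFun := fun s ↦ ⟨idealSect I T.1 s, IdealSh.IdealMod.sect_mem I T s⟩
      map_add' := fun a b ↦ Subtype.ext (map_add (idealSect I T.1) a b)
      map_smul' := fun r s ↦ Subtype.ext (idealSect_smul I T.1 r s) }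
  haveI : Module.Finite Γ(X, T.1) (I.ideal T) := Module.Finite.of_surjective φ fun ⟨t, ht⟩ ↦
    let ⟨s, hs⟩ := IdealSh.IdealMod.exists_sect I T.1 t ((IdealSh.IdealMod.mem_ideal_iff I T t).mp ht)
    ⟨s, Subtype.ext hs⟩
  exact Module.Finite.iff_fg.mp inferInstance

/-- Affine opens whose complements are cut out by finite type ideals form a quasi-separated scheme. -/
theorem quasiSeparatedSpace {ι : Type*} (U : ι → X.Opens) (hU : ∀ j, IsAffineOpen (U j))
    (hcov : ⨆ j, U j = ⊤) (I : ι → X.IdealSheafData)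
    (hI : ∀ j, CohB1.IsFT (ClSub.idealMod (I j)))
    (hIsupp : ∀ j, ((I j).support : Set ↥X) = (U j : Set ↥X)ᶜ) : QuasiSeparatedSpace X := by
  refine QuasiSeparatedSpace.of_isOpenCover (U := U) (IsOpenCover.mk hcov) (fun j V hVc hVo => ?_)
    fun j => (isQuasiSeparated_iff_quasiSeparatedSpace _ (U j).2).2
      (haveI : IsAffine (U j : Scheme.{u}) := hU j
       inferInstanceAs (QuasiSeparatedSpace (U j : Scheme.{u})))
  have hmem : ∀ z ∈ V, ∃ W : X.affineOpens, z ∈ W.1 ∧ (W.1 : Set X) ⊆ V := fun z hz => by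
    obtain ⟨W, hW, hzW, hWV⟩ := exists_isAffineOpen_mem_and_subset (X := X) (x := z) (U := ⟨V, hVo⟩) hz
    exact ⟨⟨W, hW⟩, hzW, hWV⟩
  choose W hzW hWV using hmem
  obtain ⟨t, ht⟩ := hVc.elim_finite_subcover (fun z : V => ((W z.1 z.2).1 : Set X))
    (fun z => (W z.1 z.2).1.2) fun z hz => Set.mem_iUnion.mpr ⟨⟨z, hz⟩, hzW z hz⟩
  choose s hs using fun T => fg_ideal_of_isFT (hI j) T
  have key : (U j : Set X) ∩ V = ⋃ z ∈ t, ⋃ g ∈ s (W z.1 z.2), (X.basicOpen g : Set X) := by
    ext x
    constructor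
    · rintro ⟨hxU, hxV⟩
      obtain ⟨z, hz, hxz⟩ := Set.mem_iUnion₂.mp (ht hxV)
      have hnot : x ∉ ((I j).support : Set X) := by rw [hIsupp j]; exact fun h => h hxU
      rw [SetLike.mem_coe, Scheme.IdealSheafData.mem_support_iff_of_mem hxz, ← hs (W z.1 z.2),
        Ideal.span, Scheme.zeroLocus_span, Scheme.mem_zeroLocus_iff] at hnot
      push Not at hnot
      obtain ⟨g, hg, hxg⟩ := hnot
      exact Set.mem_iUnion₂.mpr ⟨z, hz, Set.mem_iUnion₂.mpr ⟨g, hg, hxg⟩⟩
    · intro hx
      obtain ⟨z, hz, hx⟩ := Set.mem_iUnion₂.mp hx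
      obtain ⟨g, hg, hxg⟩ := Set.mem_iUnion₂.mp hx
      refine ⟨?_, hWV z.1 z.2 (X.basicOpen_le g hxg)⟩
      by_contra hxU
      have hin : x ∈ ((I j).support : Set X) := by rw [hIsupp j]; exact hxU
      rw [SetLike.mem_coe, Scheme.IdealSheafData.mem_support_iff_of_mem (X.basicOpen_le g hxg),
        Scheme.mem_zeroLocus_iff] at hin
      exact hin g (hs (W z.1 z.2) ▸ Submodule.subset_span hg) hxg
  rw [key]
  exact t.finite_toSet.isCompact_biUnion fun z _ =>
    (s (W z.1 z.2)).finite_toSet.isCompact_biUnion fun g _ => ((W z.1 z.2).2.basicOpen g).isCompact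

variable [CompactSpace X] [QuasiSeparatedSpace X]

/-- Boundary ideals of an affine cover which are quotients of finite locally free modules give the
resolution property. -/
theorem hasResolutionProperty {m : ℕ} (U : Fin m → X.Opens) (hU : ∀ j, IsAffineOpen (U j))
    (hcov : ⨆ j, U j = ⊤) (I : Fin m → X.IdealSheafData)
    (hIsupp : ∀ j, ((I j).support : Set ↥X) = (U j : Set ↥X)ᶜ)
    (hI : ∀ j, ∃ (E : X.Modules) (π : E ⟶ ClSub.idealMod (I j)), FlatMod.IsFinLocFree E ∧ Epi π) :
    PerfAux.HasResolutionProperty X := by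
  classical
  intro M hMq hMft
  haveI : M.IsQuasicoherent := hMq
  haveI : SheafOfModules.IsFiniteType.{u} M := hMft
  choose E p hE hp using hI
  choose k t ht using fun j => by
    haveI := QCoh.finite_sections_of_isFiniteType M (hU j)
    exact Module.Finite.exists_fin (R := Γ(X, U j)) (M := Γ(M, U j))
  have hπ : ∀ j x, Function.Surjective (rS (p j ≫ ClSub.idealModι (I j)) x) ↔ x ∈ U j := fun j x => by
    haveI := hp j
    rw [surjective_form_iff, hIsupp j, Set.mem_compl_iff, not_not]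
    rfl
  have hlift : ∀ i : (j : Fin m) × Fin (k j), ∃ (G : X.Modules) (h : G ⟶ M),
      FlatMod.IsFinLocFree G ∧ ∀ x (hx : x ∈ U i.1),
        germM M (U i.1) x hx (t i.1 i.2) ∈ LinearMap.range (stalkLin h x) := fun i => by
    haveI : (E i.1).IsQuasicoherent := PerfTri.Betti.isQuasicoherent_of_isFinLocFree (hE i.1)
    obtain ⟨n₀, hn₀⟩ := exists_hom_of_section (hπ i.1) (QProj.isFP (M := E i.1) (hE i.1))
      (hU i.1).isCompact (t i.1 i.2)
    obtain ⟨h, hh⟩ := hn₀ n₀ le_rfl
    exact ⟨_, h, isFinLocFree_tensorPow (hE i.1) n₀, hh⟩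
  choose G h hG hh using hlift
  let e := Fintype.equivFin ((j : Fin m) × Fin (k j))
  refine ⟨∐ fun i => G (e.symm i), Sigma.desc fun i => h (e.symm i),
    KFlat.TensorLocFree.isFinLocFree_sigma _ Finset.univ (fun i hi => absurd (Finset.mem_univ i) hi)
      (fun i => hG _), epi_of_stalk fun x => ?_⟩
  obtain ⟨j, hxj⟩ := Opens.mem_iSup.1 (hcov.ge (Opens.mem_top x))
  refine LinearMap.range_eq_top.1 (eq_top_iff.2 ?_)
  rw [← span_germ_eq_top (F := M) (hU j) (ht j) hxj, Submodule.span_le]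
  rintro _ ⟨a, rfl⟩
  obtain ⟨i, hi⟩ := e.symm.surjective ⟨j, a⟩
  obtain ⟨z, hz⟩ : ∃ z, stalkLin (h (e.symm i)) x z = germM M (U j) x hxj (t j a) := by
    rw [hi]
    exact hh ⟨j, a⟩ x hxj
  refine ⟨stalkLin (Sigma.ι (fun i => G (e.symm i)) i) x z, ?_⟩
  rw [← stalkLin_comp, Sigma.ι_desc]
  exact hz

/-- Linear forms on finite locally free modules, surjective exactly over the opens of an affine
cover, give the resolution property. -/
theorem hasResolutionProperty_of_forms {m : ℕ} (U : Fin m → X.Opens) (hU : ∀ j, IsAffineOpen (U j))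
    (hcov : ⨆ j, U j = ⊤)
    (hI : ∀ j, ∃ (E : X.Modules) (π : E ⟶ Coh.structureModule X), FlatMod.IsFinLocFree E ∧
      ∀ x, Function.Surjective (rS π x) ↔ x ∈ U j) :
    PerfAux.HasResolutionProperty X := by
  intro M hMq hMft
  classical
  haveI : M.IsQuasicoherent := hMq
  haveI : SheafOfModules.IsFiniteType.{u} M := hMft
  choose E p hE hπ using hI
  choose k t ht using fun j => by
    haveI := QCoh.finite_sections_of_isFiniteType M (hU j)
    exact Module.Finite.exists_fin (R := Γ(X, U j)) (M := Γ(M, U j))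
  have hlift : ∀ i : (j : Fin m) × Fin (k j), ∃ (G : X.Modules) (h : G ⟶ M),
      FlatMod.IsFinLocFree G ∧ ∀ x (hx : x ∈ U i.1),
        germM M (U i.1) x hx (t i.1 i.2) ∈ LinearMap.range (stalkLin h x) := fun i => by
    haveI : (E i.1).IsQuasicoherent := PerfTri.Betti.isQuasicoherent_of_isFinLocFree (hE i.1)
    obtain ⟨n₀, hn₀⟩ := exists_hom_of_section (hπ i.1) (QProj.isFP (M := E i.1) (hE i.1))
      (hU i.1).isCompact (t i.1 i.2)
    obtain ⟨h, hh⟩ := hn₀ n₀ le_rfl
    exact ⟨_, h, isFinLocFree_tensorPow (hE i.1) n₀, hh⟩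
  choose G h hG hh using hlift
  let e := Fintype.equivFin ((j : Fin m) × Fin (k j))
  refine ⟨∐ fun i => G (e.symm i), Sigma.desc fun i => h (e.symm i),
    KFlat.TensorLocFree.isFinLocFree_sigma _ Finset.univ (fun i hi => absurd (Finset.mem_univ i) hi)
      (fun i => hG _), epi_of_stalk fun x => ?_⟩
  obtain ⟨j, hxj⟩ := Opens.mem_iSup.1 (hcov.ge (Opens.mem_top x))
  refine LinearMap.range_eq_top.1 (eq_top_iff.2 ?_)
  rw [← span_germ_eq_top (F := M) (hU j) (ht j) hxj, Submodule.span_le]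
  rintro _ ⟨a, rfl⟩
  obtain ⟨i, hi⟩ := e.symm.surjective ⟨j, a⟩
  obtain ⟨z, hz⟩ : ∃ z, stalkLin (h (e.symm i)) x z = germM M (U j) x hxj (t j a) := by
    rw [hi]
    exact hh ⟨j, a⟩ x hxj
  refine ⟨stalkLin (Sigma.ι (fun i => G (e.symm i)) i) x z, ?_⟩
  rw [← stalkLin_comp, Sigma.ι_desc]
  exact hz

end Groth.Agent.PerfModel.Boundary

end
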