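import Groth.Agent.Props.QApproxMain
import Groth.Agent.Props.SubExt
import Groth.Prelude.Def_PerfAux

/-!
# Finite type and finite locally free lifts along epimorphisms on qcqs schemes
-/

set_option autoImplicit false

universe u

open CategoryTheory Limits AlgebraicGeometry Opposite TopologicalSpace
open Groth.Agent.Props.SubMod Groth.Agent.Props.SubSheaf

noncomputable section

namespace Groth.Agent.PerfModel

variable {X : Scheme.{u}}

/-- A finite supremum of finitely generated families is finitely generated. -/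
theorem ftOn_iSup {A : X.Modules} [A.IsQuasicoherent] {κ : Type*} (t : Finset κ)
    (S : κ → StalkSub A) (hS : ∀ k ∈ t, FTOn (S k) ⊤) :
    FTOn (fun y => ⨆ k ∈ t, S k y : StalkSub A) ⊤ := by
  classical
  intro x _
  obtain ⟨V, hV, hxV, -⟩ := exists_isAffineOpen_mem_and_subset (X := X) (Opens.mem_top x)
  choose T hT using fun k : t => exists_genBy (hS k.1 k.2) hV le_top
  refine ⟨V, hV, hxV, le_top, Finset.univ.biUnion T, fun y hy => ?_⟩
  refine le_antisymm (iSup₂_le fun k hk => ?_) (Submodule.span_le.2 ?_)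
  · rw [hT ⟨k, hk⟩ y hy]
    exact Submodule.span_mono (Set.image_mono fun z hz =>
      Finset.mem_biUnion.2 ⟨⟨k, hk⟩, Finset.mem_univ _, hz⟩)
  · rintro _ ⟨z, hz, rfl⟩
    obtain ⟨k, -, hk⟩ := Finset.mem_biUnion.1 hz
    refine (le_iSup₂ (f := fun j (_ : j ∈ t) => S j y) k.1 k.2) ?_
    rw [hT k y hy]
    exact Submodule.subset_span ⟨z, hk, rfl⟩

variable [CompactSpace X] [QuasiSeparatedSpace X]

/-- A finite type quotient of a quasi-coherent module is the image of a finite type submodule. -/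
theorem exists_ft_lift {A B : X.Modules} (p : A ⟶ B) [Epi p] (hA : Coh.IsQCoh A)
    (hB : Coh.IsQCoh B) (hBft : CohB1.IsFT B) :
    ∃ (M : X.Modules) (m : M ⟶ A), Coh.IsQCoh M ∧ CohB1.IsFT M ∧ Epi (m ≫ p) := by
  classical
  have : A.IsQuasicoherent := hA
  have : B.IsQuasicoherent := hB
  have : SheafOfModules.IsFiniteType.{u} B := hBft
  obtain ⟨σ, hσ⟩ := Props.QApproxMain.exists_affine_finite_cover X
  choose t ht using fun W : X.affineOpens =>
    (QCoh.finite_sections_of_isFiniteType B W.2).fg_top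
  let κ := Σ W : X.affineOpens, Γ(B, (W : X.Opens))
  have hlift : ∀ k : κ, ∃ a : Γ(A, (k.1 : X.Opens)), p.app _ a = k.2 := fun k =>
    QCoh.app_surjective_of_epi p k.1.2 k.2
  choose c hc using hlift
  choose S hS hc' using fun k : κ =>
    Props.SubExt.exists_sub_through_section A (k.1 : X.Opens) k.1.2 (c k)
  let S' : StalkSub A := fun y => ⨆ k ∈ σ.sigma t, S k y
  have hS' : FTOn S' ⊤ := ftOn_iSup _ S fun k _ => hS k
  refine ⟨_, incl S', isQuasicoherent_sub hS', isFiniteType_sub hS', ?_⟩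
  have := isQuasicoherent_sub hS'
  refine Props.QApproxMain.epi_of_cover _ fun x => ?_
  obtain ⟨W, hW, hx⟩ := hσ x
  refine ⟨W, W.2, hx, ?_⟩
  let f : Γ(sub S', (W : X.Opens)) →ₗ[Γ(X, (W : X.Opens))] Γ(B, (W : X.Opens)) :=
    { toFun := (incl S' ≫ p).app _, map_add' := map_add _,
      map_smul' := fun r a => Scheme.Modules.Hom.app_smul (incl S' ≫ p) r a }
  have h : LinearMap.range f = ⊤ := by
    rw [eq_top_iff, ← ht W, Submodule.span_le]
    intro b hb
    have hk : (⟨W, b⟩ : κ) ∈ σ.sigma t := Finset.mem_sigma.2 ⟨hW, hb⟩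
    obtain ⟨s, hs⟩ := (mem_range_incl S' (c ⟨W, b⟩)).2 fun y hy =>
      le_iSup₂ (f := fun j (_ : j ∈ σ.sigma t) => S j y) _ hk
        ((mem_range_incl (S ⟨W, b⟩) _).1 (hc' ⟨W, b⟩) y hy)
    refine ⟨s, ?_⟩
    show (incl S' ≫ p).app _ s = b
    rw [Scheme.Modules.Hom.comp_app]
    exact (congrArg (p.app _) hs).trans (hc ⟨W, b⟩)
  exact LinearMap.range_eq_top.1 h

/-- With the resolution property, a finite type quotient of a quasi-coherent module is the image
of a finite locally free module. -/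
theorem exists_finLocFree_lift (hX : PerfAux.HasResolutionProperty X) {A B : X.Modules} (p : A ⟶ B)
    [Epi p] (hA : Coh.IsQCoh A) (hB : Coh.IsQCoh B) (hBft : CohB1.IsFT B) :
    ∃ (E : X.Modules) (m : E ⟶ A), FlatMod.IsFinLocFree E ∧ Epi (m ≫ p) := by
  obtain ⟨M, m, hM, hMft, hm⟩ := exists_ft_lift p hA hB hBft
  obtain ⟨E, π, hE, hπ⟩ := hX M hM hMft
  refine ⟨E, π ≫ m, hE, ?_⟩
  rw [Category.assoc]
  exact epi_comp _ _

end Groth.Agent.PerfModel
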