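import Groth.Agent.PerfModel.Boundary
import Groth.Agent.LimTop.LocFree
import Groth.Agent.LimTop.ModModel
import Groth.Agent.LimTop.Cons
import Groth.Agent.LimTop.Descend
import Groth.Agent.S4357
import Groth.Agent.S1110

/-!
# The resolution property along limits with affine transition maps
-/

set_option autoImplicit false
set_option linter.style.haveILetI false

universe u

open CategoryTheory CategoryTheory.Limits AlgebraicGeometry TopologicalSpace Opposite

noncomputable section

namespace Groth.Agent.PerfModel.Limit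

open Groth.Agent.PullStalk.Sky Groth.Agent.PullStalk.Exact Groth.Agent.GenFam Groth.Agent.LimTop
  Groth.Agent.Omega.Stalks Groth.Agent.ExtFilt.Stalkwise

variable {X Y : Scheme.{u}}

/-- Surjectivity on the stalk at a point. -/
def Surj {A B : X.Modules} (g : A ⟶ B) (x : X) : Prop := Function.Surjective (stalkLin g x)

theorem surj_comp {A B C : X.Modules} (f : A ⟶ B) (g : B ⟶ C) (x : X) :
    ⇑(stalkLin (f ≫ g) x) = stalkLin g x ∘ stalkLin f x :=
  funext fun z => Omega.Stalks.stalkLin_comp f g x z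

theorem surj_epi_comp {A B C : X.Modules} (f : A ⟶ B) [Epi f] (g : B ⟶ C) (x : X) :
    Surj (f ≫ g) x ↔ Surj g x := by
  unfold Surj
  rw [surj_comp]
  exact ⟨Function.Surjective.of_comp, fun h => h.comp (stalk_surjective f x)⟩

theorem surj_comp_iso {A B C : X.Modules} (f : A ⟶ B) (g : B ⟶ C) [IsIso g] (x : X) :
    Surj (f ≫ g) x ↔ Surj f x := by
  have hb : Function.Bijective (stalkLin g x) := by
    refine ⟨Function.HasLeftInverse.injective ⟨stalkLin (inv g) x, fun z => ?_⟩, stalk_surjective g x⟩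
    rw [← Omega.Stalks.stalkLin_comp, IsIso.hom_inv_id]
    exact stalkLin_id B x z
  unfold Surj
  rw [surj_comp]
  refine ⟨fun h b => ?_, fun h => hb.2.comp h⟩
  obtain ⟨a, ha⟩ := h (stalkLin g x b)
  exact ⟨a, hb.1 ha⟩

theorem surj_iff_notMem_support {A B : X.Modules} (g : A ⟶ B) (x : X) :
    Surj g x ↔ x ∉ CohB1.support (cokernel g) := by
  have hz : Abelian.image.ι g ≫ cokernel.π g = 0 := kernel.condition _
  have hS : (ShortComplex.mk (Abelian.image.ι g) (cokernel.π g) hz).ShortExact :=
    { exact := ShortComplex.exact_of_f_is_kernel _ (kernelIsKernel (cokernel.π g)) }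
  obtain ⟨-, hex, hsur⟩ := stalk_exact hS x
  rw [← Abelian.image.fac g, surj_epi_comp]
  simp only [Surj, CohB1.support, Set.mem_setOf_eq, not_not, Abelian.image.fac]
  refine ⟨fun h => subsingleton_of_forall_eq 0 fun t => ?_, fun h b => (hex b).1 (Subsingleton.elim _ _)⟩
  obtain ⟨b, rfl⟩ := hsur t
  exact (hex b).2 (h b)

/-- Surjectivity on stalks is inherited by and descends from pullbacks, for finite type targets. -/
theorem surj_pullback (f : X ⟶ Y) {A B : Y.Modules} [A.IsQuasicoherent] [B.IsQuasicoherent]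
    (hB : FinOn B ⊤) (g : A ⟶ B) (x : X) :
    Surj ((Scheme.Modules.pullback f).map g) x ↔ Surj g (f x) := by
  haveI : (cokernel g).IsQuasicoherent := QCoh.isQuasicoherent_cokernel g
  haveI : Coh.IsQCoh (cokernel g) := ‹(cokernel g).IsQuasicoherent›
  rw [surj_iff_notMem_support, surj_iff_notMem_support]
  have h1 := S4357.result f (cokernel g) (isFT_of_finOn _ (finOn_of_epi hB (cokernel.π g)))
  refine not_congr ?_
  have h2 : x ∈ CohB1.support (cokernel ((Scheme.Modules.pullback f).map g)) ↔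
      x ∈ CohB1.support ((Scheme.Modules.pullback f).obj (cokernel g)) := by
    let e := PreservesCokernel.iso (Scheme.Modules.pullback f) g
    refine not_congr ⟨fun h => ?_, fun h => ?_⟩
    · exact (stalk_surjective e.inv x).subsingleton
    · exact (stalk_surjective e.hom x).subsingleton
  exact h2.trans (by rw [h1]; rfl)

theorem finOn_structureModule (X : Scheme.{u}) : FinOn (Coh.structureModule X) ⊤ := by
  haveI : (Coh.structureModule X).IsQuasicoherent := ProjTwist.isQuasicoherent_structureModule X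
  exact (fpOn_of_isFP _ (Props.QProj.isFP (M := Coh.structureModule X)
    (Boundary.isFinLocFree_structureModule X)) ⊤).finOn

/-- The pullback of the structure module. -/
abbrev unitIso (f : X ⟶ Y) :
    (Scheme.Modules.pullback f).obj (Coh.structureModule Y) ≅ Coh.structureModule X :=
  QCoh.pullbackUnitIso f

/-- An open has a form: a finite locally free module with a linear form surjective exactly there. -/
def HasForm (W : X.Opens) : Prop :=
  ∃ (E : X.Modules) (π : E ⟶ Coh.structureModule X), FlatMod.IsFinLocFree E ∧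
    ∀ x, Surj π x ↔ x ∈ W

theorem HasForm.preimage {W : Y.Opens} (h : HasForm W) (f : X ⟶ Y) : HasForm (f ⁻¹ᵁ W) := by
  obtain ⟨E, π, hE, hπ⟩ := h
  haveI : E.IsQuasicoherent := PerfTri.Betti.isQuasicoherent_of_isFinLocFree hE
  haveI : (Coh.structureModule Y).IsQuasicoherent := ProjTwist.isQuasicoherent_structureModule Y
  refine ⟨_, (Scheme.Modules.pullback f).map π ≫ (unitIso f).hom,
    KFlat.LocFree.isFinLocFree_pull f hE, fun x => ?_⟩
  rw [surj_comp_iso, surj_pullback f (finOn_structureModule Y)]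
  exact hπ (f x)

/-- With the resolution property, compact opens have forms. -/
theorem hasForm_of_resolutionProperty [CompactSpace X] [QuasiSeparatedSpace X]
    (hX : PerfAux.HasResolutionProperty X) (W : X.Opens) (hW : IsCompact (W : Set X)) :
    HasForm W := by
  obtain ⟨I, hI, hIs⟩ := Props.SubIdeal.exists_ideal W hW
  obtain ⟨E, p, hE, hp⟩ := hX _ (AmpleLib.isQCoh_idealMod I) (AmpleLib.isFT_idealMod hI)
  refine ⟨E, p ≫ ClSub.idealModι I, hE, fun x => ?_⟩
  have h := Boundary.surjective_form_iff I p x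
  rw [rS_surjective_iff, hIs, Set.mem_compl_iff, not_not] at h
  exact h

/-- The surjectivity locus of a linear form on a finite locally free module is a compact open. -/
theorem isCompact_locus [CompactSpace X] {E : X.Modules} (hE : FlatMod.IsFinLocFree E)
    (π : E ⟶ Coh.structureModule X) :
    IsCompact {x | Surj π x} ∧ IsOpen {x | Surj π x} := by
  classical
  haveI : E.IsQuasicoherent := PerfTri.Betti.isQuasicoherent_of_isFinLocFree hE
  obtain ⟨σ, hσ⟩ := Props.QApproxMain.exists_affine_finite_cover X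
  choose k q hq using fun W : X.affineOpens => by
    haveI := Props.QProj.finitePresentation_sections E hE W.2
    exact Module.Finite.exists_fin (R := Γ(X, W.1)) (M := Γ(E, W.1))
  have key : {x | Surj π x} =
      ⋃ W ∈ σ, ⋃ i : Fin (k W), (X.basicOpen (fn π W.1 (q W i)) : Set X) := by
    ext x
    constructor
    · intro hx
      obtain ⟨W, hW, hxW⟩ := hσ x
      refine Set.mem_iUnion₂.mpr ⟨W, hW, Set.mem_iUnion.mpr ?_⟩
      by_contra hnot
      push Not at hnot
      obtain ⟨t, ht⟩ := (rS_surjective_iff π x).2 hx 1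
      have hle : ∀ u, rS π x u ∈ IsLocalRing.maximalIdeal (X.presheaf.stalk x) := by
        intro u
        have hu := (span_germ_eq_top (F := E) W.2 (hq W) hxW).ge (Submodule.mem_top (x := u))
        induction hu using Submodule.span_induction with
        | mem u hu =>
          obtain ⟨i, rfl⟩ := hu
          rw [rS_germ']
          exact (IsLocalRing.mem_maximalIdeal _).2 fun hun => hnot i ((X.mem_basicOpen _ x hxW).2 hun)
        | zero => rw [map_zero]; exact zero_mem _
        | add a b _ _ ha hb => rw [map_add]; exact add_mem ha hb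
        | smul c a _ ha => rw [map_smul]; exact Ideal.mul_mem_left _ c ha
      exact (IsLocalRing.maximalIdeal.isMaximal _).ne_top ((Ideal.eq_top_iff_one _).2 (ht ▸ hle t))
    · intro hx
      obtain ⟨W, hW, hx⟩ := Set.mem_iUnion₂.mp hx
      obtain ⟨i, hxi⟩ := Set.mem_iUnion.mp hx
      have h := (GenFam.basicOpen_le (π := π) (U := ⊤) (fun _ _ => trivial) (q W i) hxi)
      refine (rS_surjective_iff π x).1 fun a => ?_
      obtain ⟨v, hv⟩ := (X.mem_basicOpen _ x h.2).mp hxi
      refine ⟨(a * (↑v⁻¹ : X.presheaf.stalk x)) • germM E W.1 x h.2 (q W i), ?_⟩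
      rw [map_smul, rS_germ', ← hv, smul_eq_mul, mul_assoc, Units.inv_mul, mul_one]
  rw [key]
  exact ⟨σ.finite_toSet.isCompact_biUnion fun W _ => isCompact_iUnion fun i =>
      (W.2.basicOpen _).isCompact,
    isOpen_biUnion fun W _ => isOpen_iUnion fun i => (X.basicOpen _).2⟩

variable {I : Type u} [SmallCategory I] [IsCofiltered I] {D : I ⥤ Scheme.{u}} {c : Cone D}
  (hc : IsLimit c) [∀ (i j : I) (f : i ⟶ j), IsAffineHom (D.map f)]
  [∀ i, CompactSpace (D.obj i)] [∀ i, QuasiSeparatedSpace (D.obj i)]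

theorem isProConstructible_compactOpen [CompactSpace X] [QuasiSeparatedSpace X] {S : Set X}
    (hS : IsCompact S) (hSo : IsOpen S) : ProCons.IsProConstructible S := by
  have h : IsRetrocompact S := fun T hT hTo =>
    QuasiSeparatedSpace.inter_isCompact _ _ hSo hS hTo hT
  exact isProConstructible_of_isLocallyConstructible (h.isConstructible hSo).isLocallyConstructible

include hc in
/-- Two compact opens with the same preimage in the limit agree at some stage. -/
theorem eventually_eq {i : I} (A B : (D.obj i).Opens) (hA : IsCompact (A : Set (D.obj i)))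
    (hB : IsCompact (B : Set (D.obj i))) (h : ∀ s, c.π.app i s ∈ A ↔ c.π.app i s ∈ B) :
    ∃ (j : I) (φ : j ⟶ i), ∀ x, D.map φ x ∈ A ↔ D.map φ x ∈ B := by
  have main : ∀ (A B : (D.obj i).Opens), IsCompact (A : Set (D.obj i)) →
      (∀ s, c.π.app i s ∈ A → c.π.app i s ∈ B) →
      ∃ (j : I) (φ : j ⟶ i), ∀ x, D.map φ x ∈ A → D.map φ x ∈ B := by
    intro A B hA h
    obtain ⟨j, φ, hj⟩ := exists_subset hc (i₀ := i)
      (fun j φ => D.map φ ⁻¹' (A : Set (D.obj i))) (fun j φ => D.map φ ⁻¹' (B : Set (D.obj i)))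
      (fun j φ => isProConstructible_compactOpen
        ((D.map φ).isCompact_preimage (U := A) hA) (A.2.preimage (D.map φ).continuous))
      (fun j φ => isIndConstructible_of_isOpen (B.2.preimage (D.map φ).continuous))
      (fun j k ψ φ => by rw [D.map_comp]; exact fun x hx => hx)
      (fun j k ψ φ => by rw [D.map_comp]; exact fun x hx => hx)
      (fun s hs => ⟨i, 𝟙 i, by
        have := h s
        have h1 := hs i (𝟙 i)
        simp only [Set.mem_preimage, D.map_id] at h1 ⊢
        exact this h1⟩)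
    exact ⟨j, φ, fun x hx => hj hx⟩
  obtain ⟨j₁, φ₁, h₁⟩ := main A B hA fun s => (h s).1
  obtain ⟨j₂, φ₂, h₂⟩ := main B A hB fun s => (h s).2
  obtain ⟨k, a, b, hab⟩ := IsCofiltered.cospan φ₁ φ₂
  refine ⟨k, a ≫ φ₁, fun x => ⟨fun hx => ?_, fun hx => ?_⟩⟩
  · rw [D.map_comp] at hx ⊢; exact h₁ _ hx
  · rw [hab, D.map_comp] at hx ⊢; exact h₂ _ hx

include hc in
/-- A form of a compact open descends to a stage. -/
theorem exists_hasForm {i : I} (W : (D.obj i).Opens) (hW : IsCompact (W : Set (D.obj i)))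
    (h : HasForm (c.π.app i ⁻¹ᵁ W)) : ∃ (j : I) (φ : j ⟶ i), HasForm (D.map φ ⁻¹ᵁ W) := by
  obtain ⟨E, π, hE, hπ⟩ := h
  haveI : E.IsQuasicoherent := PerfTri.Betti.isQuasicoherent_of_isFinLocFree hE
  obtain ⟨j, φ, G, hGq, hGfp, ⟨eG⟩⟩ := exists_model hc (i₀ := i) E (Props.QProj.isFP (M := E) hE)
  obtain ⟨k, χ, hk⟩ := (lfLocus_eventually hc (i₀ := j) Set.univ G hGfp).1 fun s => by
    obtain ⟨U, n, hU, ⟨e⟩⟩ := hE s
    exact ⟨U, n, trivial, hU, ⟨(Scheme.Modules.restrictFunctor U.ι).mapIso eG ≪≫ e⟩⟩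
  let G' := (Scheme.Modules.pullback (D.map χ)).obj G
  have hG' : FlatMod.IsFinLocFree G' := fun x => by
    obtain ⟨U, n, -, hU, e⟩ := hk x
    exact ⟨U, n, hU, e⟩
  haveI : G'.IsQuasicoherent := PerfTri.Betti.isQuasicoherent_of_isFinLocFree hG'
  haveI : (Coh.structureModule (D.obj k)).IsQuasicoherent :=
    ProjTwist.isQuasicoherent_structureModule _
  let a : (Scheme.Modules.pullback (c.π.app k)).obj G' ≅ E :=
    (compIso (c.π.app k) (D.map χ) (c.w χ)).app G ≪≫ eG
  obtain ⟨l, θ, hl, hlh⟩ := exists_hom_descend hc G' (Coh.structureModule (D.obj k))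
    (fpOn_of_isFP G' (Props.QProj.isFP (M := G') hG') ⊤) (a.hom ≫ π ≫ (unitIso (c.π.app k)).inv)
  let ψ := hl ≫ (unitIso (D.map θ)).hom
  have hGl : FlatMod.IsFinLocFree ((Scheme.Modules.pullback (D.map θ)).obj G') :=
    KFlat.LocFree.isFinLocFree_pull _ hG'
  obtain ⟨hSc, hSo⟩ := isCompact_locus hGl ψ
  have hlim : ∀ s, Surj ψ (c.π.app l s) ↔ c.π.app i s ∈ W := fun s => by
    haveI : ((Scheme.Modules.pullback (D.map θ)).obj G').IsQuasicoherent :=
      PerfTri.Betti.isQuasicoherent_of_isFinLocFree hGl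
    haveI : (Coh.structureModule (D.obj l)).IsQuasicoherent :=
      ProjTwist.isQuasicoherent_structureModule _
    rw [← surj_pullback (c.π.app l) (finOn_structureModule _) ψ s, Functor.map_comp, surj_comp_iso,
      ← surj_epi_comp ((compIso (c.π.app l) (D.map θ) (c.w θ)).app G').inv,
      ← surj_comp_iso (((compIso (c.π.app l) (D.map θ) (c.w θ)).app G').inv ≫ _)
        ((compIso (c.π.app l) (D.map θ) (c.w θ)).app (Coh.structureModule (D.obj k))).hom,
      Category.assoc, hlh, surj_epi_comp, surj_comp_iso]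
    exact hπ s
  let φl : l ⟶ i := θ ≫ χ ≫ φ
  obtain ⟨m, μ, hμ⟩ := eventually_eq hc (⟨_, hSo⟩ : (D.obj l).Opens) (D.map φl ⁻¹ᵁ W) hSc
    ((D.map φl).isCompact_preimage (U := W) hW) fun s => by
      refine (hlim s).trans ?_
      rw [← c.w φl]
      rfl
  refine ⟨m, μ ≫ φl, ?_⟩
  have h1 : HasForm (⟨_, hSo⟩ : (D.obj l).Opens) := ⟨_, ψ, hGl, fun x => Iff.rfl⟩
  obtain ⟨E', π', hE', hπ'⟩ := h1.preimage (D.map μ)
  refine ⟨E', π', hE', fun x => (hπ' x).trans ((hμ x).trans ?_)⟩
  rw [D.map_comp μ φl]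
  rfl

include hc in
/-- The resolution property of a limit holds at a stage. -/
theorem exists_stage (hX : PerfAux.HasResolutionProperty c.pt) :
    ∃ i : I, PerfAux.HasResolutionProperty (D.obj i) := by
  classical
  obtain ⟨i⟩ := (IsCofiltered.nonempty : Nonempty I)
  haveI : IsAffineHom (c.π.app i) := isAffineHom_π_app _ _ hc i
  haveI : CompactSpace c.pt := QuasiCompact.compactSpace_of_compactSpace (c.π.app i)
  haveI : QuasiSeparatedSpace c.pt := quasiSeparatedSpace_of_quasiSeparated (c.π.app i)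
  obtain ⟨σ, hσ⟩ := Props.QApproxMain.exists_affine_finite_cover (D.obj i)
  have key : ∀ τ : Finset (D.obj i).affineOpens,
      ∃ (j : I) (φ : j ⟶ i), ∀ W ∈ τ, HasForm (D.map φ ⁻¹ᵁ W.1) := by
    intro τ
    induction τ using Finset.induction with
    | empty => exact ⟨i, 𝟙 i, by simp⟩
    | insert W τ _ ih =>
      obtain ⟨j, φ, hj⟩ := ih
      obtain ⟨k, χ, hk⟩ := exists_hasForm hc W.1 W.2.isCompact
        (hasForm_of_resolutionProperty hX _ ((c.π.app i).isCompact_preimage (U := W.1) W.2.isCompact))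
      obtain ⟨l, a, b, hab⟩ := IsCofiltered.cospan φ χ
      refine ⟨l, a ≫ φ, fun V hV => ?_⟩
      rcases Finset.mem_insert.mp hV with rfl | hV
      · rw [hab, D.map_comp]
        exact hk.preimage (D.map b)
      · rw [D.map_comp]
        exact (hj V hV).preimage (D.map a)
  obtain ⟨j, φ, hj⟩ := key σ
  refine ⟨j, Boundary.hasResolutionProperty_of_forms
    (fun n : Fin σ.card => D.map φ ⁻¹ᵁ (σ.equivFin.symm n).1.1) (fun n => ?_) ?_ fun n => ?_⟩
  · exact (σ.equivFin.symm n).1.2.preimage (D.map φ)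
  · refine eq_top_iff.2 fun x _ => ?_
    obtain ⟨W, hW, hx⟩ := hσ (D.map φ x)
    refine Opens.mem_iSup.2 ⟨σ.equivFin ⟨W, hW⟩, ?_⟩
    rw [Equiv.symm_apply_apply]
    exact hx
  · obtain ⟨E, π, hE, hπ⟩ := hj _ (σ.equivFin.symm n).2
    exact ⟨E, π, hE, fun x => (rS_surjective_iff π x).trans (hπ x)⟩

end Groth.Agent.PerfModel.Limit

end
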