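import Groth.Agent.PerfModel.Lift
import Groth.Agent.CohModel.Coherent
import Groth.Agent.PCohD.PerfAmp
import Groth.Agent.FMBound.Perfect
import Groth.Agent.KFlat.TorTriangle
import Groth.Agent.PerfTri.Betti

/-!
# Strictly perfect models of bounded below complexes of quasi-coherent modules
-/

set_option autoImplicit false

universe u

open CategoryTheory Limits AlgebraicGeometry HomologicalComplex CochainComplex Pretriangulated
open Groth.Agent.CohModel

attribute [local instance] HasDerivedCategory.standard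

noncomputable section

namespace Groth.Agent.PerfModel

section Fibre

variable {A : Type*} [Category A] [Abelian A] {S K C' : CochainComplex A ℤ} (φ : S ⟶ K)

/-- The fibre of a quasi-isomorphism to a mapping cone is the kernel of an epimorphism. -/
theorem exists_fibre_epi (α : C' ⟶ mappingCone φ) (hα : QuasiIso α) :
    ∃ (ε : C' ⊞ mappingCone (𝟙 S) ⟶ S⟦(1 : ℤ)⟧) (f : kernel ε ⟶ K), Epi ε ∧ QuasiIso f := by
  let β : C' ⊞ mappingCone (𝟙 S) ⟶ mappingCone φ :=
    biprod.desc α (mappingCone.map (𝟙 S) φ (𝟙 S) φ (by simp))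
  have hβ : QuasiIso β := by
    have h1 := quasiIso_biprod_inl (C' := C') _ (isZero_homology_cone_id (S := S))
    have h2 : QuasiIso (biprod.inl ≫ β) := by simpa [β] using hα
    exact quasiIso_of_comp_left (biprod.inl : C' ⟶ C' ⊞ mappingCone (𝟙 S)) β
  let T := mappingCone.triangleRotateShortComplex φ
  have hT : T.ShortExact := shortExact_rotate φ
  let g : mappingCone φ ⟶ S⟦(1 : ℤ)⟧ := T.g
  let ε : C' ⊞ mappingCone (𝟙 S) ⟶ S⟦(1 : ℤ)⟧ := β ≫ g
  have hε : Epi ε := by
    have hcomm : mappingCone.map (𝟙 S) φ (𝟙 S) φ (by simp) ≫ g =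
        (mappingCone.triangleRotateShortComplex (𝟙 S)).g := by
      have := (mappingCone.triangleMap (𝟙 S) φ (𝟙 S) φ (by simp)).comm₃
      refine this.symm.trans ?_
      exact (congrArg (_ ≫ ·) ((CategoryTheory.shiftFunctor _ (1 : ℤ)).map_id _)).trans (Category.comp_id _)
    have : Epi ((biprod.inr : mappingCone (𝟙 S) ⟶ C' ⊞ mappingCone (𝟙 S)) ≫ ε) := by
      simp only [ε, β, biprod.inr_desc_assoc]
      rw [hcomm]
      exact (shortExact_rotate (𝟙 S)).epi_g
    exact epi_of_epi (biprod.inr : mappingCone (𝟙 S) ⟶ C' ⊞ mappingCone (𝟙 S)) ε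
  have h0 : (kernel.ι ε ≫ β) ≫ T.g = 0 := by
    rw [Category.assoc]
    exact kernel.condition ε
  let f : kernel ε ⟶ K := hT.fIsKernel.lift (KernelFork.ofι (kernel.ι ε ≫ β) h0)
  have hf : f ≫ T.f = kernel.ι ε ≫ β :=
    hT.fIsKernel.fac (KernelFork.ofι (kernel.ι ε ≫ β) h0) WalkingParallelPair.zero
  have hS₁ : (ShortComplex.mk (kernel.ι ε) ε (kernel.condition ε)).ShortExact :=
    { exact := ShortComplex.exact_of_f_is_kernel _ (kernelIsKernel ε) }
  let ψ : ShortComplex.mk (kernel.ι ε) ε (kernel.condition ε) ⟶ T :=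
    { τ₁ := f, τ₂ := β, τ₃ := 𝟙 _, comm₁₂ := hf, comm₂₃ := (Category.comp_id ε).symm }
  exact ⟨ε, f, hε, quasiIso_τ₁ ψ hS₁ hT hβ (inferInstanceAs (QuasiIso (𝟙 _)))⟩

end Fibre

variable {X : Scheme.{u}}

/-- The zero module is finite locally free. -/
theorem isFinLocFree_of_isZero {M : X.Modules} (h : IsZero M) : FlatMod.IsFinLocFree M :=
  KFlat.LocFree.isFinLocFree_of_iso
    (((HomologicalComplex.eval X.Modules (ComplexShape.up ℤ) 0).map_isZero (isZero_zero _)).iso h)
    (PCohD.isStrictlyPerfect_zero.2 0)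

theorem isFinLocFree_single {M : X.Modules} (hM : FlatMod.IsFinLocFree M) (b i : ℤ) :
    FlatMod.IsFinLocFree (((HomologicalComplex.single X.Modules (ComplexShape.up ℤ) b).obj M).X i) := by
  rcases eq_or_ne i b with rfl | h
  · exact KFlat.LocFree.isFinLocFree_of_iso (singleObjXSelf (ComplexShape.up ℤ) i M).symm hM
  · exact isFinLocFree_of_isZero (isZero_single_obj_X _ b M i h)

/-- Flat amplitude bounds cohomology from above. -/
theorem isZero_homology_of_flatAmp {K : CochainComplex X.Modules ℤ} {a b : ℤ}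
    (h : DCoh.HasFlatAmplitudeIn a b (DerivedCategory.Q.obj K)) (i : ℤ) (hi : b < i) :
    IsZero (K.homology i) := by
  obtain ⟨G, hG, -, ⟨e⟩⟩ := h
  refine (PCohD.isZero_homology_Q K i).mp (IsZero.of_iso ?_
    ((DerivedCategory.homologyFunctor _ i).mapIso e.symm))
  exact (PCohD.isZero_homology_Q G i).mpr
    (ShortComplex.isZero_homology_of_isZero_X₂ _ (hG i (Or.inr hi)))

/-- A pseudo-coherent object of flat amplitude in `[a, b]` without cohomology in degree `b` has
flat amplitude in `[a, b - 1]`. -/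
theorem flatAmp_shrink {K : DCoh.D X} {a b b' : ℤ} (hab : a ≤ b') (hb : b' ≤ b)
    (hfl : DCoh.HasFlatAmplitudeIn a b K) (hpc : DCoh.IsPseudoCoherentD (a - 1) K)
    (hH : ∀ i, b' < i → IsZero ((DerivedCategory.homologyFunctor X.Modules i).obj K)) :
    DCoh.HasFlatAmplitudeIn a b' K := by
  refine PCohD.PerfAmp.flatAmp_of_local fun x => ?_
  obtain ⟨V, hx, hV⟩ := (PCohD.PerfAmp.perfAmp_iff K (hab.trans hb)).2 ⟨hpc, hfl⟩ x
  obtain ⟨G, hG, hGf, ⟨e⟩⟩ := hV _ ⟨DerivedCategory.Q.objObjPreimageIso K⟩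
  let e' : DerivedCategory.Q.obj G ≅ (DCoh.restrictD V.ι).obj K :=
    e.symm ≪≫ (PerfTri.Perfect.restrQ V.ι _).symm ≪≫
      (DCoh.restrictD V.ι).mapIso (DerivedCategory.Q.objObjPreimageIso K)
  have hH' : ∀ i, b' < i → IsZero (G.homology i) := fun i hi =>
    (PCohD.isZero_homology_Q G i).mp ((PCohD.FTFP.isZero_restr V.ι (hH i hi)).of_iso
      ((DerivedCategory.homologyFunctor _ i).mapIso e'))
  obtain ⟨G', hG', hGf', ⟨e₂⟩⟩ := PCohD.PerfAmp.exists_trim hab ⟨⟨a, b, hG⟩, hGf⟩
    (fun i hi => hG i (Or.inl hi)) hH'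
  exact ⟨V, hx, G', hG', fun i => PCohD.PerfTor.isFlat_of_isFinLocFree (hGf' i), ⟨e₂ ≪≫ e'⟩⟩

/-- The only cohomology of an object of perfect amplitude in `[c, c]` is finite locally free. -/
theorem isFinLocFree_homology {K : CochainComplex X.Modules ℤ} {c : ℤ}
    (hfl : DCoh.HasFlatAmplitudeIn c c (DerivedCategory.Q.obj K))
    (hpc : DCoh.IsPseudoCoherentD (c - 1) (DerivedCategory.Q.obj K)) :
    FlatMod.IsFinLocFree (K.homology c) := by
  refine PCohD.PerfAmp.isFinLocFree_of_local fun x => ?_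
  obtain ⟨V, hx, hV⟩ := (PCohD.PerfAmp.perfAmp_iff _ le_rfl).2 ⟨hpc, hfl⟩ x
  obtain ⟨G, hG, hGf, ⟨e⟩⟩ := hV K ⟨Iso.refl _⟩
  have hd₁ : G.d (c - 1) c = 0 := (hG (c - 1) (Or.inl (by omega))).eq_of_src _ _
  have hd₂ : G.d c (c + 1) = 0 := (hG (c + 1) (Or.inr (by omega))).eq_of_tgt _ _
  have := G.isIso_homologyπ (c - 1) c (by simp) hd₁
  have := G.isIso_iCycles c (c + 1) (by simp) hd₂
  refine ⟨V, hx, KFlat.LocFree.isFinLocFree_of_iso ?_ (hGf c)⟩
  exact (asIso (G.iCycles c)).symm ≪≫ asIso (G.homologyπ c) ≪≫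
    ((DerivedCategory.homologyFunctorFactors _ c).app G).symm ≪≫
    (DerivedCategory.homologyFunctor _ c).mapIso (e.symm ≪≫ (PerfTri.Perfect.restrQ V.ι K).symm) ≪≫
    PCohD.FTFP.hRestr V.ι _ c ≪≫
    (Scheme.Modules.restrictFunctor V.ι).mapIso ((DerivedCategory.homologyFunctorFactors _ c).app K)

/-- Flat amplitude of the third object of a triangle. -/
theorem flatAmp₃ (T : Triangle (DCoh.D X)) (hT : T ∈ distinguishedTriangles) {a b : ℤ} (hab : a ≤ b)
    (h₁ : DCoh.HasFlatAmplitudeIn (a + 1) (b + 1) T.obj₁) (h₂ : DCoh.HasFlatAmplitudeIn a b T.obj₂) :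
    DCoh.HasFlatAmplitudeIn a b T.obj₃ := by
  obtain ⟨P, P', r, ⟨e⟩⟩ := KFlat.TorTriangle.exists_kflat_cone T hT
  exact (S0912.result _ a b hab fun G => KFlat.LTensorMod.hasLTensorMod G).mp
    ((KFlat.TorTriangle.torAmp_triangle r e a b).1 h₁ h₂)

variable [CompactSpace X] [QuasiSeparatedSpace X]

/-- The descending induction. -/
theorem exists_model (hX : PerfAux.HasResolutionProperty X) (c : ℤ) :
    ∀ (n : ℕ) (K : CochainComplex X.Modules ℤ) [K.IsStrictlyGE c], (∀ i, Coh.IsQCoh (K.X i)) →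
    DCoh.HasFlatAmplitudeIn c (c + n) (DerivedCategory.Q.obj K) →
    (∀ m, DCoh.IsPseudoCoherentD m (DerivedCategory.Q.obj K)) →
    ∃ (C : CochainComplex X.Modules ℤ) (f : C ⟶ K), QuasiIso f ∧ DCoh.IsStrictlyPerfect C := by
  intro n
  induction n with
  | zero =>
    intro K _ _ hfl hpc
    rw [show c + ((0 : ℕ) : ℤ) = c by simp] at hfl
    have hπ : IsIso (K.homologyπ c) := K.isIso_homologyπ (c - 1) c (by simp)
      ((K.isZero_of_isStrictlyGE c (c - 1)).eq_of_src _ _)
    let S : CochainComplex X.Modules ℤ :=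
      (HomologicalComplex.single X.Modules (ComplexShape.up ℤ) c).obj (K.cycles c)
    let φ : S ⟶ K := mkHomFromSingle (𝟙 (K.cycles c) ≫ K.iCycles c) (fun k _ => by simp)
    refine ⟨S, φ, ?_, ⟨c, c, fun i hi => isZero_single_obj_X _ c _ i (by omega)⟩,
      fun i => isFinLocFree_single (KFlat.LocFree.isFinLocFree_of_iso (asIso (K.homologyπ c)).symm
        (isFinLocFree_homology hfl (hpc _))) c i⟩
    rw [quasiIso_iff]
    intro i
    rw [quasiIsoAt_iff_isIso_homologyMap]
    rcases eq_or_ne i c with rfl | h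
    · rw [homologyMap_fromSingle K i (𝟙 _) φ rfl]
      infer_instance
    · refine isIso_of_source_target_iso_zero _
        (isZero_single_obj_homology _ c _ i h).isoZero (IsZero.isoZero ?_)
      rcases lt_or_gt_of_ne h with h' | h'
      · exact ShortComplex.isZero_homology_of_isZero_X₂ _ (K.isZero_of_isStrictlyGE c i)
      · exact isZero_homology_of_flatAmp hfl i h'
  | succ n ih =>
    intro K _ hq hfl hpc
    obtain ⟨b, hb⟩ : ∃ b : ℤ, b = c + n + 1 := ⟨_, rfl⟩
    rw [show c + ((n + 1 : ℕ) : ℤ) = b by push_cast; omega] at hfl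
    have hz : ∀ i, b < i → IsZero (K.homology i) := isZero_homology_of_flatAmp hfl
    have hcyc : Coh.IsQCoh (K.cycles b) :=
      @QCoh.isQuasicoherent_of_iso X _ _
        ((K.cyclesIsKernel b (b + 1) (by simp)).conePointUniqueUpToIso
          (kernelIsKernel (K.d b (b + 1)))).symm
        (@QCoh.isQuasicoherent_kernel X _ _ (K.d b (b + 1)) (hq b) (hq (b + 1)))
    have : ((DerivedCategory.Q ⋙ DerivedCategory.homologyFunctor X.Modules b).obj K).IsQuasicoherent :=
      @QCoh.isQuasicoherent_of_iso X _ _ ((DerivedCategory.homologyFunctorFactors _ b).app K).symm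
        (@PerfTri.QCohHom.isQuasicoherent_homology X _ hq b)
    have hft : CohB1.IsFT (K.homology b) :=
      Props.SubExt.isFiniteType_of_iso (Z := X)
        (hA := PCohD.FTFP.isFT_homology (hpc b) fun i hi =>
          (PCohD.isZero_homology_Q K i).mpr (hz i hi))
        ((DerivedCategory.homologyFunctorFactors _ b).app K)
    obtain ⟨M, m, hM, hm⟩ := exists_finLocFree_lift hX (K.homologyπ b) hcyc
      (@PerfTri.QCohHom.isQuasicoherent_homology X _ hq b) hft
    let S : CochainComplex X.Modules ℤ := (HomologicalComplex.single X.Modules (ComplexShape.up ℤ) b).obj M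
    let φ : S ⟶ K := mkHomFromSingle (m ≫ K.iCycles b) (fun k _ => by simp)
    have hφ : Epi (homologyMap φ b) := by
      rw [homologyMap_fromSingle K b m φ rfl]
      exact epi_comp _ _
    have hSf : ∀ i, FlatMod.IsFinLocFree (S.X i) := isFinLocFree_single hM b
    have hSz : ∀ i, i ≠ b → IsZero (S.X i) := fun i hi => isZero_single_obj_X _ b M i hi
    have hS : DCoh.IsStrictlyPerfect S := ⟨⟨b, b, fun i hi => hSz i (by omega)⟩, hSf⟩
    have hge : (mappingCone φ).IsStrictlyGE c :=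
      (CochainComplex.isStrictlyGE_iff _ c).2 fun i hi =>
        (mappingCone.isZero_X_iff φ i).mpr ⟨hSz _ (by omega), K.isZero_of_isStrictlyGE c i hi⟩
    have hX' : ∀ i, Coh.IsQCoh ((mappingCone φ).X i) := fun i =>
      @QCoh.isQuasicoherent_of_iso X _ _ (coneXIso φ i).symm
        (CohDev.isQCoh_biprod (PerfTri.Betti.isQuasicoherent_of_isFinLocFree (hSf (i + 1))) (hq i))
    let T := mappingCone.triangleRotateShortComplex φ
    have hT : T.ShortExact := shortExact_rotate φ
    have hzc : ∀ i, b - 1 < i → IsZero ((mappingCone φ).homology i) := fun i hi => by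
      refine (hT.homology_exact₂ i).isZero_X₂ ?_
        ((isZero_homology_single_shift M b i (by omega)).eq_of_tgt _ _)
      show homologyMap (mappingCone.inr φ) i = 0
      rcases eq_or_ne i b with rfl | h
      · rw [← cancel_epi (homologyMap φ i), comp_zero, ← homologyMap_comp]
        exact ((homotopyCofiber.inrCompHomotopy φ (fun j => ⟨j - 1, by simp⟩)).homologyMap_eq i).trans
          (homologyMap_zero _ _ _)
      · exact (hz i (by omega)).eq_of_src _ _
    let T' := DerivedCategory.Q.mapTriangle.obj (mappingCone.triangle φ)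
    have hT' : T' ∈ distinguishedTriangles := DerivedCategory.mappingCone_triangle_distinguished φ
    have hpc' : ∀ k, DCoh.IsPseudoCoherentD k (DerivedCategory.Q.obj (mappingCone φ)) := fun k =>
      PCohD.pc₃ (m := k) T' hT'
        (PCohD.pc_of_isAp ⟨S, (Iso.refl (DerivedCategory.Q.obj S)).hom, hS,
          @KFlat.TildePC.appr_of_isIso _ _ _ _ _ _ _ _ (Iso.isIso_hom (Iso.refl _))⟩) (hpc k)
    have hfl₁ : DCoh.HasFlatAmplitudeIn c b T'.obj₃ :=
      flatAmp₃ T' hT' (by omega)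
        ⟨S, fun i hi => hSz i (by omega), fun i => PCohD.PerfTor.isFlat_of_isFinLocFree (hSf i),
          ⟨Iso.refl _⟩⟩ hfl
    have hfl' : DCoh.HasFlatAmplitudeIn c (c + n) (DerivedCategory.Q.obj (mappingCone φ)) :=
      flatAmp_shrink (b := b) (by omega) (by omega) hfl₁ (hpc' _) fun i hi =>
        (PCohD.isZero_homology_Q _ i).mpr (hzc i (by omega))
    obtain ⟨C, α, hα, ⟨⟨p, q, hC⟩, hCf⟩⟩ := ih (mappingCone φ) hX' hfl' hpc'
    obtain ⟨ε, f, hε, hf⟩ := exists_fibre_epi φ α hα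
    have hsrc : DCoh.IsStrictlyPerfect (C ⊞ mappingCone (𝟙 S)) := by
      obtain ⟨⟨p', q', hcv⟩, hcf⟩ := PerfTri.Cone.isStrictlyPerfect_mappingCone (𝟙 S) hS hS
      refine ⟨⟨min p p', max q q', fun i hi => IsZero.of_iso ((biprod_isZero_iff _ _).2
        ⟨hC i (by omega), hcv i (by omega)⟩) (HomologicalComplex.biprodXIso _ _ i)⟩, fun i => ?_⟩
      exact KFlat.LocFree.isFinLocFree_of_iso (HomologicalComplex.biprodXIso _ _ i).symm
        (PerfTri.Cone.isFinLocFree_biprod (hCf i) (hcf i))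
    obtain ⟨⟨p', q', hv⟩, hsf⟩ := hsrc
    let e : ∀ i, (kernel ε).X i ≅ kernel (ε.f i) := fun i =>
      PreservesKernel.iso (HomologicalComplex.eval X.Modules (ComplexShape.up ℤ) i) ε
    refine ⟨kernel ε, f, hf, ⟨p', q', fun i hi =>
      IsZero.of_mono (kernel.ι (ε.f i)) (hv i hi) |>.of_iso (e i)⟩, fun i => ?_⟩
    have : Epi (ε.f i) :=
      (HomologicalComplex.eval X.Modules (ComplexShape.up ℤ) i).map_epi ε
    exact KFlat.LocFree.isFinLocFree_of_iso (e i).symm
      (PCohD.PerfAmp.isFinLocFree_kernel (ε.f i) (hsf i) (hSf (i + 1)))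

/-- Bounded below quasi-coherent complexes which are perfect receive quasi-isomorphisms from
strictly perfect complexes. -/
theorem exists_strictlyPerfect_model (hX : PerfAux.HasResolutionProperty X)
    (K : CochainComplex X.Modules ℤ) {a : ℤ} (hKb : ∀ i, i < a → IsZero (K.X i))
    (hq : ∀ i, Coh.IsQCoh (K.X i)) (hK : DCoh.IsPerfect (DerivedCategory.Q.obj K)) :
    ∃ (E : CochainComplex X.Modules ℤ) (φ : E ⟶ K), DCoh.IsStrictlyPerfect E ∧ QuasiIso φ := by
  obtain ⟨p, q, G, hG, hGf, he⟩ := FMBound.Perfect.exists_flatAmp hK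
  obtain ⟨c, hca, hcp⟩ : ∃ c : ℤ, c ≤ a ∧ c ≤ p := ⟨min a p, min_le_left _ _, min_le_right _ _⟩
  have : K.IsStrictlyGE c := (CochainComplex.isStrictlyGE_iff _ c).2 fun i hi => hKb i (by omega)
  obtain ⟨C, f, hf, hC⟩ := exists_model hX c (q - c).toNat K hq
    ⟨G, fun i hi => hG i (by omega), hGf, he⟩ (fun m => PCohD.pc_of_perfect hK m)
  exact ⟨C, f, hC, hf⟩

end Groth.Agent.PerfModel
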