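import Groth.Agent.PerfTor.Perfect
import Mathlib.FieldTheory.IsPerfectClosure
import Mathlib.FieldTheory.PerfectClosure
import Mathlib.Algebra.MvPolynomial.Rename
import Mathlib.Algebra.MvPolynomial.CommRing
import Mathlib.Algebra.MvPolynomial.Supported

/-!
# Finitely presented stages of a perfect algebra

For a perfect `B`-algebra `L`, the stages are the perfect subrings, of quotients of the perfect polynomial
ring on `L`, generated by finitely many variables modulo finitely many relations.
-/

set_option autoImplicit false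

universe u

open MvPolynomial

namespace Groth.Agent.PerfModel

variable {p : ℕ} [hp : Fact p.Prime]

lemma add_pow_pn {R : Type*} [CommRing R] (h : (p : R) = 0) (n : ℕ) (x y : R) :
    (x + y) ^ p ^ n = x ^ p ^ n + y ^ p ^ n := by
  induction n with
  | zero => simp
  | succ n ih => rw [pow_succ, pow_mul, pow_mul, pow_mul, ih, PerfTor.add_pow_p h]

lemma natCast_zero_of {R S : Type*} [CommRing R] [CommRing S] (f : R →+* S) (h : (p : R) = 0) :
    (p : S) = 0 := by rw [← map_natCast f, h, map_zero]

variable {B L : Type u} [CommRing B] [CharP B p] [CommRing L] [Algebra B L]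

variable (p B L) in
/-- The perfect polynomial ring on the set `L`. -/
abbrev Big : Type u := PerfectClosure (MvPolynomial L B) p

/-- The canonical map to the perfect polynomial ring. -/
noncomputable abbrev ι : MvPolynomial L B →+* Big p B L := PerfectClosure.of (MvPolynomial L B) p

lemma perf_big : PerfTor.Perf p (Big p B L) :=
  ⟨CharP.cast_eq_zero _ p, PerfectRing.bijective_frobenius (R := Big p B L) (p := p)⟩

lemma exists_pow_eq_ι (x : Big p B L) : ∃ (n : ℕ) (f : MvPolynomial L B), x ^ p ^ n = ι f := by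
  induction x using PerfectClosure.induction_on with
  | _ x =>
    refine ⟨x.1, x.2, ?_⟩
    rw [← iterate_frobenius]
    exact PerfectClosure.iterate_frobenius_mk (MvPolynomial L B) p x.1 x.2

lemma exists_pow_of_ι_eq_zero {z : MvPolynomial L B} (h : (ι z : Big p B L) = 0) :
    ∃ m, z ^ p ^ m = 0 := by
  obtain ⟨m, hm⟩ := (PerfectClosure.mk_eq_iff (MvPolynomial L B) p (0, z) (0, 0)).mp h
  refine ⟨m, ?_⟩
  rw [← iterate_frobenius]
  simpa [iterate_frobenius, zero_pow (pow_ne_zero m hp.out.ne_zero)] using hm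

lemma mem_radical_of_ι_mem {I : Ideal (MvPolynomial L B)} {z : MvPolynomial L B}
    (h : (ι z : Big p B L) ∈ (I.map (ι (p := p))).radical) : z ∈ I.radical := by
  obtain ⟨k, hk⟩ := h
  rw [← map_pow] at hk
  suffices z ^ k ∈ I.radical from I.radical_isRadical ⟨k, this⟩
  have hp0 : (p : Big p B L) = 0 := perf_big.1
  have key : ∀ y ∈ I.map (ι (p := p)), ∃ (N : ℕ) (w : MvPolynomial L B), w ∈ I ∧
      y ^ p ^ N = ι w := by
    intro y hy
    induction hy using Submodule.span_induction with
    | mem y hy => obtain ⟨w, hw, rfl⟩ := hy; exact ⟨0, w, hw, by simp⟩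
    | zero => exact ⟨0, 0, zero_mem _, by simp⟩
    | add y y' _ _ hy hy' =>
      obtain ⟨N, w, hw, e⟩ := hy
      obtain ⟨N', w', hw', e'⟩ := hy'
      refine ⟨N + N', w ^ p ^ N' + w' ^ p ^ N, I.add_mem
        (Ideal.pow_mem_of_mem I hw _ (pow_pos hp.out.pos _))
        (Ideal.pow_mem_of_mem I hw' _ (pow_pos hp.out.pos _)), ?_⟩
      rw [add_pow_pn hp0, map_add, map_pow, map_pow, ← e, ← e', ← pow_mul, ← pow_mul,
        ← pow_add, ← pow_add, add_comm N' N]
    | smul c y _ hy =>
      obtain ⟨N, w, hw, e⟩ := hy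
      obtain ⟨M, d, hd⟩ := exists_pow_eq_ι c
      refine ⟨N + M, d ^ p ^ N * w ^ p ^ M, I.mul_mem_left _
        (Ideal.pow_mem_of_mem I hw _ (pow_pos hp.out.pos _)), ?_⟩
      rw [smul_eq_mul, mul_pow, map_mul, map_pow, map_pow, ← e, ← hd, ← pow_mul, ← pow_mul,
        ← pow_add, ← pow_add, add_comm M N]
  obtain ⟨N, w, hw, e⟩ := key _ hk
  rw [← map_pow, ← sub_eq_zero, ← map_sub] at e
  obtain ⟨m, hm⟩ := exists_pow_of_ι_eq_zero e
  have h1 : (z ^ k) ^ p ^ N - w ∈ I.radical := ⟨p ^ m, by rw [hm]; exact zero_mem _⟩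
  exact I.radical_isRadical ⟨p ^ N, by simpa using Ideal.add_mem _ h1 (Ideal.le_radical hw)⟩

section stages

/-- The evaluation map. -/
noncomputable abbrev ev : MvPolynomial L B →ₐ[B] L := aeval (id : L → L)

variable (B L) in
/-- Indices of stages: variables and relations. -/
abbrev Idx : Type u := Finset L × Finset ↥(RingHom.ker (ev (B := B) (L := L)))

/-- All variables involved in a stage. -/
noncomputable def vset (j : Idx B L) : Finset L :=
  letI := Classical.decEq L
  j.1 ∪ j.2.biUnion fun u => u.1.vars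

lemma fst_subset_vset (j : Idx B L) : j.1 ⊆ vset j := by
  classical
  intro a ha
  simp [vset, ha]

lemma vars_subset_vset {j : Idx B L} {u : ↥(RingHom.ker (ev (B := B) (L := L)))} (hu : u ∈ j.2) :
    u.1.vars ⊆ vset j := by
  classical
  intro a ha
  simp only [vset, Finset.mem_union, Finset.mem_biUnion]
  exact Or.inr ⟨u, hu, ha⟩

lemma vset_mono {i j : Idx B L} (h : i ≤ j) : vset i ⊆ vset j := by
  classical
  intro a ha
  simp only [vset, Finset.mem_union, Finset.mem_biUnion] at ha ⊢
  rcases ha with ha | ⟨u, hu, ha⟩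
  · exact Or.inl (h.1 ha)
  · exact Or.inr ⟨u, h.2 hu, ha⟩

/-- The relations of a stage. -/
noncomputable def rels (j : Idx B L) : Ideal (MvPolynomial L B) :=
  Ideal.span (Subtype.val '' (j.2 : Set ↥(RingHom.ker (ev (B := B) (L := L)))))

lemma rels_mono {i j : Idx B L} (h : i ≤ j) : rels i ≤ rels j :=
  Ideal.span_mono (Set.image_mono h.2)

lemma rels_le_ker (j : Idx B L) : rels j ≤ RingHom.ker (ev (B := B) (L := L)) :=
  Ideal.span_le.mpr fun _ ⟨u, _, hu⟩ => hu ▸ u.2

variable (p) in
/-- The relations of a stage inside the perfect polynomial ring. -/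
noncomputable def irel (j : Idx B L) : Ideal (Big p B L) := ((rels j).map (ι (p := p))).radical

lemma irel_mono {i j : Idx B L} (h : i ≤ j) : irel p i ≤ irel p j :=
  Ideal.radical_mono (Ideal.map_mono (rels_mono h))

lemma perf_quot (j : Idx B L) : PerfTor.Perf p (Big p B L ⧸ irel p j) :=
  perf_big.of_surjective (Ideal.Quotient.mk _) Ideal.Quotient.mk_surjective
    (by rw [Ideal.mk_ker]; exact Ideal.radical_isRadical _)

variable (p) in
/-- Polynomials in the variables of the stage. -/
noncomputable def rho (j : Idx B L) : MvPolynomial ↥(vset j) B →+* Big p B L ⧸ irel p j :=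
  ((Ideal.Quotient.mk (irel p j)).comp ι).comp (rename Subtype.val).toRingHom

variable (p) in
/-- A stage. -/
noncomputable def St (j : Idx B L) : Subring (Big p B L ⧸ irel p j) where
  carrier := {q | ∃ n, q ^ p ^ n ∈ (rho p j).range}
  one_mem' := ⟨0, by simp⟩
  zero_mem' := ⟨0, by simp⟩
  mul_mem' := by
    rintro x y ⟨n, hx⟩ ⟨m, hy⟩
    refine ⟨n + m, ?_⟩
    rw [mul_pow]
    refine Subring.mul_mem _ ?_ ?_
    · rw [pow_add, pow_mul]; exact Subring.pow_mem _ hx _
    · rw [add_comm, pow_add, pow_mul]; exact Subring.pow_mem _ hy _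
  add_mem' := by
    rintro x y ⟨n, hx⟩ ⟨m, hy⟩
    refine ⟨n + m, ?_⟩
    rw [add_pow_pn (perf_quot j).1]
    refine Subring.add_mem _ ?_ ?_
    · rw [pow_add, pow_mul]; exact Subring.pow_mem _ hx _
    · rw [add_comm, pow_add, pow_mul]; exact Subring.pow_mem _ hy _
  neg_mem' := by
    rintro x ⟨n, hx⟩
    refine ⟨n, ?_⟩
    rw [neg_eq_neg_one_mul, mul_pow]
    exact Subring.mul_mem _ (Subring.pow_mem _ (Subring.neg_mem _ (Subring.one_mem _)) _) hx

lemma mem_St_of_range {j : Idx B L} {q : Big p B L ⧸ irel p j} (h : q ∈ (rho p j).range) :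
    q ∈ St p j := ⟨0, by simpa using h⟩

lemma perf_St (j : Idx B L) : PerfTor.Perf p ↥(St p j) := by
  have h := perf_quot (p := p) j
  refine ⟨Subtype.ext (by simpa using h.1), fun x y hxy => Subtype.ext (h.2.1 ?_), fun x => ?_⟩
  · exact congrArg Subtype.val hxy
  · obtain ⟨q, hq⟩ := h.2.2 x.1
    obtain ⟨n, hn⟩ := x.2
    refine ⟨⟨q, n + 1, ?_⟩, Subtype.ext hq⟩
    rw [pow_succ', pow_mul, show q ^ p = x.1 from hq]
    exact hn

variable (p) in
/-- The structure map of a stage. -/
noncomputable def str (j : Idx B L) : B →+* ↥(St p j) :=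
  ((rho p j).comp (C : B →+* MvPolynomial ↥(vset j) B)).codRestrict (St p j)
    fun b => mem_St_of_range ⟨C b, rfl⟩

lemma factor_mem {i j : Idx B L} (h : i ≤ j) (x : Big p B L ⧸ irel p i) (hx : x ∈ St p i) :
    Ideal.Quotient.factor (irel_mono h) x ∈ St p j := by
  obtain ⟨n, f, hf⟩ := hx
  refine ⟨n, rename (fun a => (⟨a.1, vset_mono h a.2⟩ : ↥(vset j))) f, ?_⟩
  rw [← map_pow, ← hf]
  show Ideal.Quotient.mk _ (ι (rename Subtype.val (rename _ f))) =
    Ideal.Quotient.mk _ (ι (rename Subtype.val f))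
  rw [rename_rename]
  rfl

variable (p) in
/-- The transition maps. -/
noncomputable def trans {i j : Idx B L} (h : i ≤ j) : ↥(St p i) →+* ↥(St p j) :=
  ((Ideal.Quotient.factor (irel_mono h)).comp (St p i).subtype).codRestrict (St p j)
    fun x => factor_mem h x.1 x.2

lemma trans_val {i j : Idx B L} (h : i ≤ j) (x : ↥(St p i)) :
    (trans p h x).1 = Ideal.Quotient.factor (irel_mono h) x.1 := rfl

lemma trans_str {i j : Idx B L} (h : i ≤ j) : (trans p h).comp (str p i) = str p j := by
  ext b
  show Ideal.Quotient.mk _ (ι (rename Subtype.val (C b))) =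
    Ideal.Quotient.mk _ (ι (rename Subtype.val (C b)))
  simp only [rename_C]

lemma trans_refl (i : Idx B L) : trans p (le_refl i) = RingHom.id _ := by
  refine RingHom.ext fun x => Subtype.ext ?_
  rw [trans_val, RingHom.id_apply, Ideal.Quotient.factor_eq]
  rfl

lemma trans_trans {i j k : Idx B L} (h : i ≤ j) (h' : j ≤ k) :
    (trans p h').comp (trans p h) = trans p (h.trans h') := by
  refine RingHom.ext fun x => Subtype.ext ?_
  rw [RingHom.comp_apply, trans_val, trans_val, trans_val]
  exact RingHom.congr_fun (Ideal.Quotient.factor_comp (irel_mono h) (irel_mono h')) x.1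

variable [CharP L p] [PerfectRing L p]

variable (p) in
/-- The evaluation on the perfect polynomial ring. -/
noncomputable def theta : Big p B L →+* L :=
  PerfectClosure.lift (MvPolynomial L B) p L (ev (B := B) (L := L)).toRingHom

lemma theta_ι (f : MvPolynomial L B) : theta p (ι f) = ev f :=
  RingHom.congr_fun ((PerfectClosure.lift (MvPolynomial L B) p L).symm_apply_apply
    (ev (B := B) (L := L)).toRingHom) f

lemma irel_le_ker (j : Idx B L) : irel p j ≤ RingHom.ker (theta p) := by
  intro x hx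
  obtain ⟨k, hk⟩ := hx
  have hk0 : theta p x ^ k = 0 := by
    rw [← map_pow]
    exact (Ideal.map_le_iff_le_comap.mpr fun f hf => by
      show theta p (ι f) = 0
      rw [theta_ι]
      exact rels_le_ker j hf : (rels j).map (ι (p := p)) ≤ RingHom.ker (theta p)) hk
  exact PerfTor.Perf.eq_zero_of_pow_eq_zero
    ⟨CharP.cast_eq_zero L p, PerfectRing.bijective_frobenius (R := L) (p := p)⟩ hk0

variable (p) in
/-- The maps from the stages. -/
noncomputable def proj (j : Idx B L) : ↥(St p j) →+* L :=
  (Ideal.Quotient.lift (irel p j) (theta p) fun _ ha => RingHom.mem_ker.mp (irel_le_ker j ha)).comp (St p j).subtype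

lemma proj_str (j : Idx B L) : (proj p j).comp (str p j) = algebraMap B L := by
  ext b
  show theta p (ι (rename Subtype.val (C b))) = _
  rw [theta_ι, rename_C, aeval_C]

lemma proj_apply (j : Idx B L) (x : ↥(St p j)) : proj p j x =
    Ideal.Quotient.lift (irel p j) (theta p) (fun _ ha => RingHom.mem_ker.mp (irel_le_ker j ha)) x.1 := rfl

lemma proj_trans {i j : Idx B L} (h : i ≤ j) : (proj p j).comp (trans p h) = proj p i := by
  refine RingHom.ext fun x => ?_
  rw [RingHom.comp_apply, proj_apply, proj_apply, trans_val]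
  obtain ⟨y, hy⟩ := Ideal.Quotient.mk_surjective x.1
  rw [← hy, Ideal.Quotient.factor_mk, Ideal.Quotient.lift_mk, Ideal.Quotient.lift_mk]

variable (p B) in
/-- The stage containing a given element. -/
noncomputable def single (a : L) : Idx B L := ({a}, ∅)

lemma mem_vset_single (a : L) : a ∈ vset (single B a) :=
  fst_subset_vset _ (by simp [single])

variable (p B) in
/-- The tautological element. -/
noncomputable def gen (a : L) : ↥(St p (single B a)) :=
  ⟨rho p (single B a) (X ⟨a, mem_vset_single a⟩), mem_St_of_range ⟨_, rfl⟩⟩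

lemma proj_gen (a : L) : proj p (single B a) (gen p B a) = a := by
  show theta p (ι (rename Subtype.val (X _))) = a
  rw [theta_ι, rename_X, aeval_X]
  rfl

lemma exists_trans_eq_zero {j : Idx B L} (x : ↥(St p j)) (h : proj p j x = 0) :
    ∃ (k : Idx B L) (hk : j ≤ k), trans p hk x = 0 := by
  classical
  obtain ⟨x, hx⟩ := x
  obtain ⟨y, rfl⟩ := Ideal.Quotient.mk_surjective x
  obtain ⟨n, f, hf⟩ := exists_pow_eq_ι y
  have hy : theta p y = 0 := h
  have hf0 : f ∈ RingHom.ker (ev (B := B) (L := L)) := by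
    rw [RingHom.mem_ker, ← theta_ι (p := p), ← hf, map_pow, hy,
      zero_pow (pow_ne_zero _ hp.out.ne_zero)]
  refine ⟨(j.1, j.2 ∪ {⟨f, hf0⟩}), ⟨le_refl _, Finset.subset_union_left⟩, Subtype.ext ?_⟩
  show Ideal.Quotient.mk _ y = 0
  rw [Ideal.Quotient.eq_zero_iff_mem]
  refine ⟨p ^ n, ?_⟩
  rw [hf]
  exact Ideal.mem_map_of_mem _ (Ideal.subset_span ⟨⟨f, hf0⟩, by simp, rfl⟩)

end stages

end Groth.Agent.PerfModel
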